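import Groth.Agent.LimTop.FlatLim
import Groth.Prelude.Def_NonAbH2
import Mathlib.CategoryTheory.Limits.Constructions.Over.Connected

/-!
# Limits of schemes affine, flat and surjective over a base
-/

set_option autoImplicit false
set_option linter.style.haveILetI false
set_option backward.isDefEq.respectTransparency false

universe u

open CategoryTheory Limits MonoidalCategory CartesianMonoidalCategory MonObj AlgebraicGeometry TopologicalSpace

namespace Groth.Agent.LimTors

variable {S : Scheme.{u}}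

/-- An action with unique differences of points is a pseudo-torsor. -/
theorem isPseudoTorsor_of_existsUnique {K P : Over S} [GrpObj K] (a : AlgGrp.Action K P)
    (hd : ∀ {U : Over S} (x y : U ⟶ P), ∃! g : U ⟶ K, lift g x ≫ a.act = y) :
    NonAbH1.IsPseudoTorsorSch a := by
  let dg := (hd (snd P P) (fst P P)).choose
  have hdg : lift dg (snd P P) ≫ a.act = fst P P := (hd (snd P P) (fst P P)).choose_spec.1
  refine ⟨lift dg (snd P P), ?_, ?_⟩
  · show lift a.act (snd K P) ≫ lift dg (snd P P) = 𝟙 _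
    rw [comp_lift, lift_snd, ← lift_fst_snd]
    refine congrArg (fun g => lift g (snd K P)) ?_
    refine (hd (snd K P) a.act).unique ?_ (by rw [lift_fst_snd, Category.id_comp])
    have := congrArg (lift a.act (snd K P) ≫ ·) hdg
    simp only [comp_lift_assoc, lift_snd, lift_fst] at this
    exact this
  · show lift dg (snd P P) ≫ lift a.act (snd K P) = 𝟙 _
    rw [comp_lift, hdg, lift_snd, lift_fst_snd]

variable {I : Type u} [SmallCategory I] [IsCofiltered I] (D : I ⥤ Over S) {c : Cone D} (hc : IsLimit c)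
  [∀ i, IsAffineHom (D.obj i).hom]

instance isAffineHom_map {i j : I} (f : i ⟶ j) : IsAffineHom ((D ⋙ Over.forget S).map f) := by
  show IsAffineHom (D.map f).left
  have : IsAffineHom ((D.map f).left ≫ (D.obj j).hom) := by rw [Over.w]; infer_instance
  exact MorphismProperty.of_postcomp (W := @IsAffineHom) (W' := @IsSeparated) (D.map f).left (D.obj j).hom
    (inferInstanceAs (IsSeparated (D.obj j).hom)) this

attribute [local instance] IsCofiltered.isConnected

noncomputable def isLimitForget : IsLimit ((Over.forget S).mapCone c) := isLimitOfPreserves (Over.forget S) hc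

include hc in
theorem isAffineHom_pt : IsAffineHom c.pt.hom := by
  let i : I := Classical.arbitrary I
  haveI : IsAffineHom (c.π.app i).left := isAffineHom_π_app _ _ (isLimitForget D hc) i
  rw [← Over.w (show c.pt ⟶ D.obj i from c.π.app i)]
  exact MorphismProperty.comp_mem _ _ _ ‹_› inferInstance

include hc in
theorem flat_pt [∀ i, Flat (D.obj i).hom] : Flat c.pt.hom := by
  let i : I := Classical.arbitrary I
  let D₀ := D ⋙ Over.forget S
  let c₀ := (Over.forget S).mapCone c
  have : IsZariskiLocalAtSource (P := (@Flat.{u} : MorphismProperty Scheme.{u})) :=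
    HasRingHomProperty.instIsZariskiLocalAtSource (Q := RingHom.Flat)
  haveI := isAffineHom_pt D hc
  refine (IsZariskiLocalAtSource.iff_of_iSup_eq_top (P := @Flat.{u})
    (fun U : S.affineOpens => c.pt.hom ⁻¹ᵁ U.1) ?_).mpr fun U => ?_
  · rw [← Scheme.Hom.preimage_iSup, iSup_affineOpens_eq_top, Scheme.Hom.preimage_top]
  let U₀ : (D₀.obj i).Opens := (D.obj i).hom ⁻¹ᵁ U.1
  have hU₀ : IsAffineOpen U₀ := U.2.preimage _
  let C := opensCone D₀ c₀ i U₀
  let hC : IsLimit C := isLimitOpensCone D₀ c₀ (isLimitForget D hc) i U₀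
  have haff (j : Over i) : IsAffine ((opensDiagram D₀ i U₀).obj j) := hU₀.preimage _
  haveI : IsAffine C.pt := Scheme.isAffine_of_isLimit _ hC
  haveI (j : (Over i)ᵒᵖ) : IsAffine ((opensDiagram D₀ i U₀).op.obj j).unop := haff _
  haveI : IsAffine U.1.toScheme := U.2
  have hcol := isColimitOfPreserves Scheme.Γ hC.op
  let m : ∀ j : Over i, (opensDiagram D₀ i U₀).obj j ⟶ U.1.toScheme := fun j =>
    (D.obj j.left).hom.resLE U.1 ((D.map j.hom).left ⁻¹ᵁ U₀)
      (by rw [← Scheme.Hom.comp_preimage, Over.w])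
  have hm : ∀ j : Over i, m j ≫ U.1.ι = ((D.map j.hom).left ⁻¹ᵁ U₀).ι ≫ (D.obj j.left).hom :=
    fun j => Scheme.Hom.resLE_comp_ι _ _
  have hmap : ∀ {a b : Over i} (f : a ⟶ b), (opensDiagram D₀ i U₀).map f ≫ m b = m a := fun {a b} f => by
    rw [← cancel_mono U.1.ι, Category.assoc, hm, hm]
    show (D.map f.left).left.resLE _ _ _ ≫ Scheme.Opens.ι _ ≫ _ = _
    rw [Scheme.Hom.resLE_comp_ι_assoc, Over.w]
    rfl
  let top : Over i := Over.mk (𝟙 i)
  let mC : C.pt ⟶ U.1.toScheme := C.π.app top ≫ m top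
  have hmC : ∀ j, C.π.app j ≫ m j = mC := fun j => by
    show _ = C.π.app top ≫ m top
    rw [← C.w (Over.homMk j.hom : j ⟶ top), Category.assoc, hmap]
  have hflat : Flat mC := by
    rw [HasRingHomProperty.iff_of_isAffine (P := @Flat.{u})]
    refine LimTop.flat_of_isColimit hcol (fun j ↦ (m j.unop).appTop)
      (fun {a b} f ↦ ?_) _ (fun j ↦ ?_) (fun j ↦ ?_)
    · show _ ≫ ((opensDiagram D₀ i U₀).map f.unop).appTop = _
      rw [← Scheme.Hom.comp_appTop, hmap]
    · show _ ≫ (C.π.app j.unop).appTop = _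
      rw [← Scheme.Hom.comp_appTop, hmC]
    · haveI : Flat (m j.unop) := IsZariskiLocalAtSource.resLE (P := @Flat.{u}) _ inferInstance
      exact (HasRingHomProperty.iff_of_isAffine (P := @Flat.{u})).mp ‹_›
  have e : c.pt.hom ⁻¹ᵁ U.1 = (c.π.app i).left ⁻¹ᵁ U₀ := by
    rw [← Scheme.Hom.comp_preimage, Over.w (show c.pt ⟶ D.obj i from c.π.app i)]
  rw [e]
  have e' : mC ≫ U.1.ι = ((c.π.app i).left ⁻¹ᵁ U₀).ι ≫ c.pt.hom := by
    show (C.π.app top ≫ m top) ≫ U.1.ι = _
    rw [Category.assoc, hm]
    show (c.π.app i).left.resLE _ _ _ ≫ Scheme.Opens.ι _ ≫ _ = _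
    rw [Scheme.Hom.resLE_comp_ι_assoc]
    refine Eq.trans ?_ (congrArg (fun q => ((c.π.app i).left ⁻¹ᵁ U₀).ι ≫ q) (Over.w (show c.pt ⟶ D.obj i from c.π.app i)))
    rfl
  rw [← e']
  exact @Flat.comp _ _ _ _ _ hflat inferInstance

include hc in
theorem surjective_pt [∀ i, Surjective (D.obj i).hom] : Surjective c.pt.hom := by
  refine ⟨fun x => ?_⟩
  let h := S.fromSpecResidueField x
  let F : Over S ⥤ Scheme.{u} := Over.pullback h ⋙ Over.forget _
  haveI : PreservesLimitsOfShape I (Over.pullback h) :=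
    (Over.mapPullbackAdj h).rightAdjoint_preservesLimits.preservesLimitsOfShape
  have hl : IsLimit (F.mapCone c) := isLimitOfPreserves F hc
  haveI : ∀ {i j : I} (f : i ⟶ j), IsAffineHom ((D ⋙ F).map f) := fun f =>
    MorphismProperty.overPullbackMap (P := @IsAffineHom) h (D.map f) (isAffineHom_map D f)
  haveI : ∀ i, CompactSpace ((D ⋙ F).obj i) := fun i => by
    haveI : IsAffineHom (pullback.snd (D.obj i).hom h) := inferInstance
    haveI : IsAffine (pullback (D.obj i).hom h) := isAffine_of_isAffineHom (pullback.snd (D.obj i).hom h)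
    exact inferInstanceAs (CompactSpace (pullback (D.obj i).hom h : Scheme.{u}))
  haveI : ∀ i, Nonempty ((D ⋙ F).obj i) := fun i => by
    obtain ⟨z, -⟩ := (pullback.snd (D.obj i).hom h).surjective (IsLocalRing.closedPoint _)
    exact ⟨z⟩
  obtain ⟨z⟩ := Scheme.nonempty_of_isLimit _ _ hl
  refine ⟨(pullback.fst c.pt.hom h).base z, ?_⟩
  rw [← Scheme.Hom.comp_apply, pullback.condition, Scheme.Hom.comp_apply]
  exact S.fromSpecResidueField_apply x _

end Groth.Agent.LimTors
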