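import Mathlib

/-!
# Limits of group objects and of affine schemes over a base
-/

set_option autoImplicit false
set_option linter.style.haveILetI false
set_option backward.isDefEq.respectTransparency false

universe w v u

open CategoryTheory Limits MonoidalCategory CartesianMonoidalCategory MonObj AlgebraicGeometry

namespace Groth.Agent.LimTors

section

variable {C : Type u} [Category.{v} C] [CartesianMonoidalCategory C] {J : Type w} [Category.{w} J]

/-- A limit of group objects is computed in the underlying category when the latter limit exists. -/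
theorem preservesLimit_forget (DG : J ⥤ Grp C) [HasLimit (DG ⋙ Grp.forget C)] :
    PreservesLimit DG (Grp.forget C) := by
  let D₂ := DG ⋙ Grp.forget₂Mon C
  haveI : HasLimit (D₂ ⋙ Mon.forget C) := inferInstanceAs (HasLimit (DG ⋙ Grp.forget C))
  let c₀ := limit.cone (D₂ ⋙ Mon.forget C)
  let hc₀ : IsLimit c₀ := limit.isLimit _
  let M := Mon.limitCone D₂ c₀ hc₀
  let hM : IsLimit M := Mon.limitConeIsLimit D₂ c₀ hc₀
  let pr : ∀ j, M.pt.X ⟶ (DG.obj j).X := fun j => c₀.π.app j
  haveI hpr : ∀ j, IsMonHom (pr j) := fun j => inferInstanceAs (IsMonHom (M.π.app j).hom)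
  haveI hD : ∀ {i j : J} (f : i ⟶ j), IsMonHom (DG.map f).hom.hom := fun f => inferInstance
  let ci : Cone (D₂ ⋙ Mon.forget C) :=
    { pt := M.pt.X
      π :=
        { app := fun j => ((pr j)⁻¹ : M.pt.X ⟶ (DG.obj j).X)
          naturality := fun i j f => by
            show 𝟙 _ ≫ (pr j)⁻¹ = (pr i)⁻¹ ≫ (DG.map f).hom.hom
            rw [Category.id_comp, GrpObj.inv_comp]
            congr 1
            exact (c₀.w f).symm } }
  let ι' : M.pt.X ⟶ M.pt.X := hc₀.lift ci
  have hι : ∀ j, ι' ≫ pr j = (pr j)⁻¹ := fun j => hc₀.fac ci j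
  letI : GrpObj M.pt.X :=
    { inv := ι'
      left_inv := hc₀.hom_ext fun j => by
        show (lift ι' (𝟙 _) ≫ μ[M.pt.X]) ≫ pr j = (toUnit _ ≫ η[M.pt.X]) ≫ pr j
        rw [← Hom.mul_def, MonObj.mul_comp, ← Hom.one_def, MonObj.one_comp, hι, Category.id_comp, inv_mul_cancel]
      right_inv := hc₀.hom_ext fun j => by
        show (lift (𝟙 _) ι' ≫ μ[M.pt.X]) ≫ pr j = (toUnit _ ≫ η[M.pt.X]) ≫ pr j
        rw [← Hom.mul_def, MonObj.mul_comp, ← Hom.one_def, MonObj.one_comp, hι, Category.id_comp, mul_inv_cancel] }
  let G₀ : Cone DG :=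
    { pt := Grp.mk M.pt.X
      π :=
        { app := fun j => (Grp.fullyFaithfulForget₂Mon C).preimage (M.π.app j)
          naturality := fun i j f => (Grp.forget₂Mon C).map_injective (by
            simp only [Functor.map_comp, Functor.FullyFaithful.map_preimage, Functor.const_obj_map,
              CategoryTheory.Functor.map_id, Category.id_comp]
            erw [CategoryTheory.Functor.map_id]
            exact (Category.id_comp _).trans (M.w f).symm) } }
  have e : (Grp.forget₂Mon C).mapCone G₀ ≅ M :=
    Cone.ext (Iso.refl _) (fun j => by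
      simp only [Functor.mapCone_π_app, G₀, Functor.FullyFaithful.map_preimage, Iso.refl_hom]
      exact (Category.id_comp _).symm)
  haveI : PreservesLimit D₂ (Mon.forget C) :=
    preservesLimit_of_preserves_limit_cone hM (hc₀.ofIsoLimit (Mon.forgetMapConeLimitConeIso D₂ c₀ hc₀).symm)
  have hG₀ : IsLimit G₀ := isLimitOfReflects (Grp.forget₂Mon C) (hM.ofIsoLimit e.symm)
  haveI : PreservesLimit DG (Grp.forget₂Mon C) := preservesLimit_of_preserves_limit_cone hG₀ (hM.ofIsoLimit e.symm)
  exact inferInstanceAs (PreservesLimit DG (Grp.forget₂Mon C ⋙ Mon.forget C))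

end

/-- A connected diagram of affine schemes over a base has a limit. -/
theorem hasLimit_of_isAffine {S : Scheme.{u}} {J : Type u} [SmallCategory J] [IsConnected J]
    (F : J ⥤ Over S) [∀ j, IsAffine (F.obj j).left] : HasLimit F := by
  let F' : J ⥤ AffineScheme.{u} :=
    { obj := fun j => AffineScheme.of (F.obj j).left
      map := fun f => AffineScheme.ofHom (F.map f).left
      map_id := fun j => AffineScheme.forgetToScheme.map_injective (by simp [AffineScheme.ofHom]; rfl)
      map_comp := fun f g => AffineScheme.forgetToScheme.map_injective (by simp [AffineScheme.ofHom]; rfl) }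
  haveI : HasLimit (F ⋙ Over.forget S) := inferInstanceAs (HasLimit (F' ⋙ AffineScheme.forgetToScheme))
  exact hasLimit_of_created F (Over.forget S)

end Groth.Agent.LimTors
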